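import Cfsg.Agent.Lib.LinearGroups.Small
import Mathlib.GroupTheory.QuotientGroup.Basic
import Mathlib.RingTheory.RootsOfUnity.Complex
import Mathlib.RingTheory.RootsOfUnity.Basic

/-!
Elements of a finite linear group with the two eigenvalues `σ / s` and `conj σ / s`, the arc between `σ` and
`conj σ` being shorter than a sixth of the circle, have commuting conjugates (Blichfeldt).
-/

set_option autoImplicit false

namespace CfsgLib.SmallPSylow

set_option maxHeartbeats 1000000

open CfsgLib.LinearGroups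
open scoped ComplexConjugate

theorem norm_sub_mu_lt {w : ℂ} (hw : ‖w‖ = 1) (hre : mu < w.re) : ‖w - (mu : ℂ)‖ < 1 / 2 := by
  refine lt_of_pow_lt_pow_left₀ 2 (by norm_num) ?_
  rw [Complex.sq_norm, Complex.normSq_sub, Complex.normSq_eq_norm_sq, hw, Complex.normSq_ofReal,
    Complex.conj_ofReal, Complex.re_mul_ofReal]
  nlinarith [mu_sq, mu_pos]

/-- A finite linear group acts isometrically on an isomorphic space. -/
theorem exists_isometric {G : Type*} [Group G] [Finite G] {n : ℕ} (ρ : Representation ℂ G (Fin n → ℂ)) :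
    ∃ (U : Type) (_ : NormedAddCommGroup U) (_ : InnerProductSpace ℂ U) (_ : FiniteDimensional ℂ U)
      (e : (Fin n → ℂ) ≃ₗ[ℂ] U) (T : G →* Module.End ℂ U),
      IsIsometric T ∧ ∀ g v, T g (e v) = e (ρ g v) := by
  classical
  haveI := Fintype.ofFinite G
  let ι : G × Fin n ≃ Fin (Fintype.card (G × Fin n)) := Fintype.equivFin _
  let j : (Fin n → ℂ) →ₗ[ℂ] EuclideanSpace ℂ (Fin (Fintype.card (G × Fin n))) :=
    { toFun := fun v => WithLp.toLp 2 (fun x => ρ (ι.symm x).1 v (ι.symm x).2)
      map_add' := fun a b => by ext x; simp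
      map_smul' := fun c a => by ext x; simp }
  have hj : Function.Injective j := by
    intro a b e
    funext i
    have := congrArg (fun z : EuclideanSpace ℂ (Fin (Fintype.card (G × Fin n))) => z (ι (1, i))) e
    simpa [j] using this
  let e := LinearEquiv.ofInjective j hj
  let T : G →* Module.End ℂ (LinearMap.range j) :=
    { toFun := fun g => e.toLinearMap ∘ₗ ρ g ∘ₗ e.symm.toLinearMap
      map_one' := by apply LinearMap.ext; intro v; simp
      map_mul' := fun a b => by apply LinearMap.ext; intro v; simp [Module.End.mul_apply] }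
  refine ⟨LinearMap.range j, inferInstance, inferInstance, inferInstance, e, T, fun g w => ?_, fun g v => by simp [T]⟩
  obtain ⟨v, rfl⟩ := e.surjective w
  show ‖(e (ρ g (e.symm (e v))) : LinearMap.range j)‖ = ‖e v‖
  rw [e.symm_apply_apply, Submodule.coe_norm, Submodule.coe_norm,
    LinearEquiv.ofInjective_apply, LinearEquiv.ofInjective_apply, EuclideanSpace.norm_eq,
    EuclideanSpace.norm_eq]
  congr 1
  refine Fintype.sum_equiv (ι.symm.trans (((Equiv.mulRight g).prodCongr (Equiv.refl (Fin n))).trans ι)) _ _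
    fun x => ?_
  simp [j, Equiv.prodCongr_apply, map_mul, Module.End.mul_apply]

/-- The pair of an element and a root of unity, acting by the scalar times the element. -/
def scaled {G : Type*} [Group G] {U : Type*} [AddCommGroup U] [Module ℂ U] (T : G →* Module.End ℂ U) (N : ℕ) :
    G × rootsOfUnity N ℂ →* Module.End ℂ U where
  toFun := fun x => ((x.2 : ℂˣ) : ℂ) • T x.1
  map_one' := by simp
  map_mul' := fun a b => by
    rw [Prod.fst_mul, Prod.snd_mul, Subgroup.coe_mul, Units.val_mul, map_mul, smul_mul_smul_comm]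

theorem commute_conj_aux {G : Type*} [Group G] [Finite G] {U : Type*} [NormedAddCommGroup U]
    [InnerProductSpace ℂ U] [FiniteDimensional ℂ U] (T : G →* Module.End ℂ U) (hT : IsIsometric T)
    (hinj : Function.Injective T) (z : G) (N : ℕ) [NeZero N] (s σ : ℂ) (hs : s ^ N = 1) (hσ : ‖σ‖ = 1)
    (hre : mu < σ.re)
    (hz : ∀ v, (s * s) • T z (T z v) - ((σ + conj σ) * s) • T z v + v = 0) (g h : G) :
    g * z * g⁻¹ * (h * z * h⁻¹) = h * z * h⁻¹ * (g * z * g⁻¹) := by
  classical
  let S := (scaled T N).toHomUnits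
  obtain ⟨sC, hsC⟩ : ∃ sC : rootsOfUnity N ℂ, ((sC : ℂˣ) : ℂ) = s := by
    have hs0 : s ≠ 0 := fun h => by
      rw [h, zero_pow (NeZero.ne N)] at hs
      exact zero_ne_one hs
    refine ⟨⟨Units.mk0 s hs0, (mem_rootsOfUnity _ _).2 (Units.ext ?_)⟩, Units.val_mk0 hs0⟩
    rw [Units.val_pow_eq_pow_val, Units.val_mk0, Units.val_one, hs]
  let T' : (G × rootsOfUnity N ℂ) ⧸ S.ker →* Module.End ℂ U := (Units.coeHom _).comp (QuotientGroup.kerLift S)
  have hT' : IsIsometric T' := by
    intro x v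
    obtain ⟨y, rfl⟩ := QuotientGroup.mk_surjective x
    have e : T' (y : (G × rootsOfUnity N ℂ) ⧸ S.ker) v = ((y.2 : ℂˣ) : ℂ) • T y.1 v := rfl
    rw [e, norm_smul, hT, Complex.norm_eq_one_of_pow_eq_one ?_ (NeZero.ne N), one_mul]
    rw [← Units.val_pow_eq_pow_val, (mem_rootsOfUnity _ _).1 y.2.2, Units.val_one]
  have hsmall : ∀ a : G, IsSmall T' (((a * z * a⁻¹, sC) : G × rootsOfUnity N ℂ) : (G × rootsOfUnity N ℂ) ⧸ S.ker) := by
    intro a
    obtain ⟨x, hx⟩ : ∃ x, x = (((a * z * a⁻¹, sC) : G × rootsOfUnity N ℂ) : (G × rootsOfUnity N ℂ) ⧸ S.ker) :=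
      ⟨_, rfl⟩
    rw [← hx]
    refine isSmall_of_joint hT' ({x} : Set _) (by rintro _ rfl _ rfl; rfl) ⟨x, rfl⟩ fun χ hχ => ?_
    obtain ⟨v, hv, hv0⟩ := Submodule.exists_mem_ne_zero_of_ne_bot hχ
    generalize hl : χ ⟨x, rfl⟩ = l
    have h1 := Module.End.mem_eigenspace_iff.1 ((Submodule.mem_iInf _).1 hv ⟨x, rfl⟩)
    rw [hl] at h1
    have e : T' x v = s • T (a * z * a⁻¹) v := by
      rw [hx, ← hsC]
      rfl
    have h2 : s • T (a * z * a⁻¹) v = l • v := e.symm.trans h1
    have hinv : T a (T a⁻¹ v) = v := map_inv_apply_cancel T a v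
    have hc : ∀ w, T (a * z * a⁻¹) w = T a (T z (T a⁻¹ w)) := fun w => by
      rw [map_mul_apply, map_mul_apply]
    have hq : (s * s) • T (a * z * a⁻¹) (T (a * z * a⁻¹) v) -
        ((σ + conj σ) * s) • T (a * z * a⁻¹) v + v = 0 := by
      have h := congrArg (T a) (hz (T a⁻¹ v))
      simp only [map_add, map_sub, map_smul, map_zero, hinv] at h
      have h3 : T a⁻¹ (T a (T z (T a⁻¹ v))) = T z (T a⁻¹ v) := by
        rw [← map_mul_apply T a⁻¹ a, inv_mul_cancel, map_one]
        rfl
      rw [hc (T (a * z * a⁻¹) v), hc v, h3]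
      exact h
    have h4 : (s * s) • T (a * z * a⁻¹) (T (a * z * a⁻¹) v) = (l * l) • v := by
      rw [mul_smul, ← map_smul, h2, map_smul, smul_comm, h2, smul_smul]
    rw [h4, mul_smul _ s, h2, smul_smul] at hq
    have h5 : l * l - (σ + conj σ) * l + 1 = 0 := by
      refine (smul_eq_zero.1 ?_).resolve_right hv0
      rw [add_smul, sub_smul, one_smul]
      exact hq
    have hcs : σ * conj σ = 1 := by rw [Complex.mul_conj', hσ]; norm_num
    have h6 : (l - σ) * (l - conj σ) = 0 := by linear_combination h5 + hcs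
    rcases mul_eq_zero.1 h6 with h | h <;> rw [sub_eq_zero.1 h]
    · exact norm_sub_mu_lt hσ hre
    · exact norm_sub_mu_lt (by rw [Complex.norm_conj, hσ]) (by rwa [Complex.conj_re])
  have hT'inj : Function.Injective T' := fun a b hab => QuotientGroup.kerLift_injective S (Units.ext hab)
  have key := commute_of_small hT' hT'inj (hsmall g) (hsmall h)
  have key2 : scaled T N (g * z * g⁻¹ * (h * z * h⁻¹), sC * sC) =
      scaled T N (h * z * h⁻¹ * (g * z * g⁻¹), sC * sC) :=
    congrArg T' key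
  apply hinj
  exact smul_right_injective (Module.End ℂ U) (Units.ne_zero ((sC * sC : rootsOfUnity N ℂ) : ℂˣ)) key2

/-- Conjugates of an element with a short two-point spectrum commute. -/
theorem commute_conj {G : Type*} [Group G] [Finite G] {n : ℕ} (ρ : Representation ℂ G (Fin n → ℂ))
    (hρ : Function.Injective ρ) (z : G) (N : ℕ) [NeZero N] (s σ : ℂ) (hs : s ^ N = 1) (hσ : ‖σ‖ = 1)
    (hre : mu < σ.re)
    (hz : ∀ v, (s * s) • ρ z (ρ z v) - ((σ + conj σ) * s) • ρ z v + v = 0) (g h : G) :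
    g * z * g⁻¹ * (h * z * h⁻¹) = h * z * h⁻¹ * (g * z * g⁻¹) := by
  obtain ⟨U, i1, i2, i3, e, T, hT, hTe⟩ := exists_isometric ρ
  refine commute_conj_aux T hT (fun a b hab => hρ (LinearMap.ext fun v => e.injective ?_)) z N s σ hs hσ hre
    (fun w => ?_) g h
  · rw [← hTe, ← hTe, hab]
  · obtain ⟨v, rfl⟩ := e.surjective w
    have h := congrArg e (hz v)
    simp only [map_add, map_sub, map_smul, map_zero] at h
    rw [hTe, hTe]
    exact h

end CfsgLib.SmallPSylow
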