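import Cfsg.Agent.Lib.Elementary
import Cfsg.Agent.Lib.CharTheory.Integral
import Cfsg.Agent.Lib.CharTheory.Linear
import Mathlib.RingTheory.RootsOfUnity.Complex

/-!
A nonabelian `p`-subgroup in degree below `2 p` and different from `p`: a central commutator with exactly the
eigenvalues `1` and `ω`, and no small invariant subspace outside the fixed points of the derived group.
-/

set_option autoImplicit false

namespace CfsgLib.SmallPSylow

open Cfsg CfsgLib.CharTheory
open scoped commutatorElement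

universe u

variable {G : Type u} [Group G] [Finite G] {n : ℕ} (ρ : Representation ℂ G (Fin n → ℂ))

/-- The averaging projection onto the fixed points of a subgroup. -/
noncomputable def avg (D : Subgroup G) : Module.End ℂ (Fin n → ℂ) :=
  letI := Fintype.ofFinite D
  (Nat.card D : ℂ)⁻¹ • ∑ c : D, ρ c

theorem mul_avg (D : Subgroup G) {c : G} (hc : c ∈ D) : ρ c * avg ρ D = avg ρ D := by
  letI := Fintype.ofFinite D
  rw [avg, mul_smul_comm, Finset.mul_sum]
  congr 1
  exact Fintype.sum_equiv (Equiv.mulLeft (⟨c, hc⟩ : D)) _ _ fun d => by simp [map_mul]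

theorem avg_of_fixed (D : Subgroup G) {v : Fin n → ℂ} (h : ∀ c ∈ D, ρ c v = v) : avg ρ D v = v := by
  letI := Fintype.ofFinite D
  rw [avg, LinearMap.smul_apply, LinearMap.sum_apply,
    Finset.sum_congr rfl fun (c : D) _ => h (c : G) c.2,
    Finset.sum_const, Finset.card_univ, ← Nat.card_eq_fintype_card, ← Nat.cast_smul_eq_nsmul ℂ,
    smul_smul, inv_mul_cancel₀ (Nat.cast_ne_zero.2 Nat.card_pos.ne'), one_smul]

theorem avg_comm (D : Subgroup G) {x : G} (hx : ∀ c ∈ D, x * c * x⁻¹ ∈ D) :
    ρ x * avg ρ D = avg ρ D * ρ x := by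
  letI := Fintype.ofFinite D
  rw [avg, mul_smul_comm, smul_mul_assoc, Finset.mul_sum, Finset.sum_mul]
  congr 1
  let f : D → D := fun c => ⟨x * c * x⁻¹, hx c c.2⟩
  have hf : Function.Injective f := fun a b h => Subtype.ext (by simpa [f] using congrArg Subtype.val h)
  exact Fintype.sum_bijective f ((Fintype.bijective_iff_injective_and_card f).2 ⟨hf, rfl⟩) _ _ fun c => by
    rw [← map_mul, ← map_mul]; congr 1; simp [f, mul_assoc]

/-- A `p`-group has no invariant subspace of dimension below `p` without nonzero vectors fixed by its derived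
group. -/
theorem le_finrank {P D : Subgroup G} {p : ℕ} [Fact p.Prime] (hP : IsPGroup p P) (hD : D = ⁅P, P⁆)
    (W : Submodule ℂ (Fin n → ℂ)) (hW : ∀ x ∈ P, ∀ w ∈ W, ρ x w ∈ W)
    (hfix : ∀ w ∈ W, avg ρ D w = 0) (h0 : W ≠ ⊥) : p ≤ Module.finrank ℂ W := by
  classical
  obtain ⟨W0, ⟨hW0i, hW0n, hW0le⟩, hmin⟩ := WellFounded.has_min
    (IsWellFounded.wf : WellFounded (fun a b : Submodule ℂ (Fin n → ℂ) => a < b))
    {U | (∀ x ∈ P, ∀ w ∈ U, ρ x w ∈ U) ∧ U ≠ ⊥ ∧ U ≤ W} ⟨W, hW, h0, le_rfl⟩
  refine le_trans ?_ (Submodule.finrank_mono hW0le)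
  let σ : Representation ℂ P W0 :=
    { toFun := fun x => (ρ (x : G)).restrict (fun w hw => hW0i x x.2 w hw)
      map_one' := LinearMap.ext fun w => Subtype.ext (by simp)
      map_mul' := fun a b => LinearMap.ext fun w => Subtype.ext (by simp [map_mul]) }
  haveI : Nontrivial (Subrepresentation σ) := by
    obtain ⟨w, hw, hw0⟩ := Submodule.exists_mem_ne_zero_of_ne_bot hW0n
    refine ⟨⊥, ⊤, fun h => hw0 ?_⟩
    have h1 : (⟨w, hw⟩ : W0) ∈ (⊥ : Subrepresentation σ).toSubmodule := by rw [h]; trivial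
    exact congrArg Subtype.val ((Submodule.mem_bot ℂ).1 h1)
  haveI : σ.IsIrreducible := by
    refine { eq_bot_or_eq_top := fun S => ?_ }
    by_cases hS : S.toSubmodule = ⊥
    · exact Or.inl (Subrepresentation.toSubmodule_injective hS)
    refine Or.inr (Subrepresentation.toSubmodule_injective ?_)
    show S.toSubmodule = ⊤
    have h1 : S.toSubmodule.map W0.subtype = W0 := by
      refine (Submodule.map_subtype_le _ _).antisymm ?_
      by_contra hle
      refine hmin (S.toSubmodule.map W0.subtype) ⟨?_, ?_, (Submodule.map_subtype_le _ _).trans hW0le⟩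
        ⟨Submodule.map_subtype_le _ _, hle⟩
      · rintro x hx _ ⟨w, hw, rfl⟩
        exact ⟨σ ⟨x, hx⟩ w, S.apply_mem_toSubmodule _ hw, rfl⟩
      · intro h
        exact hS (Submodule.map_injective_of_injective W0.injective_subtype (by rw [h, Submodule.map_bot]))
    exact Submodule.map_injective_of_injective W0.injective_subtype
      (by rw [h1, Submodule.map_subtype_top])
  have hdvd := finrank_dvd_card σ
  obtain ⟨a, ha⟩ := hP.exists_card_eq
  rw [ha] at hdvd
  obtain ⟨b, -, hb⟩ := (Nat.dvd_prime_pow Fact.out).1 hdvd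
  rw [hb]
  rcases Nat.eq_zero_or_pos b with rfl | hb0
  · exfalso
    rw [pow_zero] at hb
    obtain ⟨w, hw0, hw⟩ := finrank_eq_one_iff'.1 hb
    have hcomm : ∀ x ∈ P, ∀ y ∈ P, ρ (x * y) (w : Fin n → ℂ) = ρ (y * x) w := by
      intro x hx y hy
      obtain ⟨a, ha⟩ := hw (σ ⟨x, hx⟩ w)
      obtain ⟨c, hc⟩ := hw (σ ⟨y, hy⟩ w)
      have ha' : a • (w : Fin n → ℂ) = ρ x w := congrArg Subtype.val ha
      have hc' : c • (w : Fin n → ℂ) = ρ y w := congrArg Subtype.val hc
      rw [map_mul, map_mul, Module.End.mul_apply, Module.End.mul_apply, ← ha', ← hc', map_smul, map_smul,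
        ← ha', ← hc', smul_comm]
    have hfixw : ∀ c ∈ D, ρ c (w : Fin n → ℂ) = w := by
      let St : Subgroup G :=
        { carrier := {c | ρ c (w : Fin n → ℂ) = w}
          one_mem' := by simp
          mul_mem' := fun {a b} ha hb => by
            show ρ (a * b) (w : Fin n → ℂ) = w
            rw [map_mul, Module.End.mul_apply, show ρ b (w : Fin n → ℂ) = w from hb]; exact ha
          inv_mem' := fun {a} ha => by
            show ρ a⁻¹ (w : Fin n → ℂ) = w
            conv_lhs => rw [← (show ρ a (w : Fin n → ℂ) = w from ha)]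
            rw [← Module.End.mul_apply, ← map_mul, inv_mul_cancel, map_one]; rfl }
      have hle : D ≤ St := by
        rw [hD, Subgroup.commutator_le]
        intro x hx y hy
        show ρ ⁅x, y⁆ (w : Fin n → ℂ) = w
        have h := hcomm x hx y hy
        have hmem : ρ (x⁻¹ * y⁻¹) (w : Fin n → ℂ) = ρ (y⁻¹ * x⁻¹) w :=
          hcomm _ (inv_mem hx) _ (inv_mem hy)
        rw [commutatorElement_def, mul_assoc (x * y), map_mul, Module.End.mul_apply, hmem,
          ← Module.End.mul_apply, ← map_mul, show x * y * (y⁻¹ * x⁻¹) = 1 by group, map_one]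
        rfl
      exact fun c hc => hle hc
    apply hw0
    apply Subtype.ext
    rw [Submodule.coe_zero, ← avg_of_fixed ρ D hfixw]
    exact hfix _ (hW0le w.2)
  · exact Nat.le_self_pow hb0.ne' p

variable {ρ}

/-- The fixed part and the moved part with the central element `z`. -/
theorem exists_two_eigen (hρ : Function.Injective ρ) {P : Subgroup G} {p : ℕ} [Fact p.Prime]
    (hP : IsPGroup p P) (hna : ∃ x ∈ P, ∃ y ∈ P, x * y ≠ y * x) (hn : n < 2 * p) (hnp : n ≠ p) :
    ∃ (z : G) (ω : ℂ), ω = Complex.exp (2 * Real.pi * Complex.I / p) ∧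
      (∀ v, ρ z (ρ z v) - (1 + ω) • ρ z v + ω • v = 0) ∧
      (∃ v, v ≠ 0 ∧ ρ z v = v) ∧ (∃ v, v ≠ 0 ∧ ρ z v = ω • v) ∧
      ∀ W : Submodule ℂ (Fin n → ℂ), (∀ x ∈ P, ∀ w ∈ W, ρ x w ∈ W) → Module.finrank ℂ W < p →
        ∀ w ∈ W, ∀ c ∈ ⁅P, P⁆, ρ c w = w := by
  classical
  have hp : p.Prime := Fact.out
  set D := ⁅P, P⁆ with hD
  have hDle : D ≤ P := Subgroup.commutator_le.2 fun x hx y hy =>
    P.mul_mem (P.mul_mem (P.mul_mem hx hy) (inv_mem hx)) (inv_mem hy)
  have hDn : ∀ x ∈ P, ∀ c ∈ D, x * c * x⁻¹ ∈ D := by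
    intro x hx c hc
    have h1 : D.map (MulAut.conj x).toMonoidHom = D := by
      rw [hD, Subgroup.map_commutator]
      have : P.map (MulAut.conj x).toMonoidHom = P := by
        refine Subgroup.eq_of_le_of_card_ge ?_ (le_of_eq (Nat.card_congr
          (P.equivMapOfInjective _ (MulAut.conj x).injective).toEquiv))
        rintro _ ⟨y, hy, rfl⟩
        exact P.mul_mem (P.mul_mem hx hy) (inv_mem hx)
      rw [this]
    exact h1 ▸ ⟨c, hc, rfl⟩
  set e := avg ρ D with he
  have hfixe : ∀ c ∈ D, ∀ v, ρ c (e v) = e v := fun c hc v => LinearMap.congr_fun (mul_avg ρ D hc) v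
  have hee : ∀ v, e (e v) = e v := fun v => avg_of_fixed ρ D fun c hc => hfixe c hc v
  set M := LinearMap.ker e with hM
  have hMinv : ∀ x ∈ P, ∀ v ∈ M, ρ x v ∈ M := fun x hx v hv => by
    rw [hM, LinearMap.mem_ker] at hv ⊢
    have h := LinearMap.congr_fun (avg_comm ρ D (hDn x hx)) v
    simp only [Module.End.mul_apply] at h
    rw [← h, hv, map_zero]
  have hsub : ∀ v, v - e v ∈ M := fun v => by rw [hM, LinearMap.mem_ker, map_sub, hee, sub_self]
  -- a central element of the derived group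
  haveI : Group.IsNilpotent P := hP.isNilpotent
  obtain ⟨z0, hz0D, hz0c, hz0p⟩ : ∃ z0 : G, z0 ∈ D ∧ (∀ x ∈ P, x * z0 = z0 * x) ∧ orderOf z0 = p := by
    have hne : (D.subgroupOf P) ≠ ⊥ := by
      intro h
      obtain ⟨x, hx, y, hy, hxy⟩ := hna
      have h1 : (⟨⁅x, y⁆, hDle (Subgroup.commutator_mem_commutator hx hy)⟩ : P) ∈ D.subgroupOf P :=
        Subgroup.commutator_mem_commutator hx hy
      rw [h, Subgroup.mem_bot, Subtype.ext_iff] at h1
      exact hxy (commutatorElement_eq_one_iff_mul_comm.1 h1)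
    haveI : (D.subgroupOf P).Normal := ⟨fun c hc x => hDn x x.2 c hc⟩
    have hI := CfsgLib.inf_center_ne_bot_of_nilpotent hne
    have hd : p ∣ Nat.card (D.subgroupOf P ⊓ Subgroup.center P : Subgroup P) := by
      obtain ⟨a, ha⟩ := (hP.to_subgroup (D.subgroupOf P ⊓ Subgroup.center P)).exists_card_eq
      rcases Nat.eq_zero_or_pos a with rfl | h
      · exact absurd (Subgroup.card_eq_one.1 (by simpa using ha)) hI
      · rw [ha]; exact dvd_pow_self p h.ne'
    obtain ⟨c, hc⟩ := exists_prime_orderOf_dvd_card' p hd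
    obtain ⟨hc1, hc2⟩ := Subgroup.mem_inf.1 c.2
    refine ⟨((c : P) : G), hc1, fun x hx => ?_, by rw [Subgroup.orderOf_coe, Subgroup.orderOf_coe, hc]⟩
    exact congrArg Subtype.val (Subgroup.mem_center_iff.1 hc2 ⟨x, hx⟩)
  have hz01 : z0 ≠ 1 := fun h => hp.ne_one (by rw [← hz0p, h, orderOf_one])
  -- `M` is nonzero
  have hM0 : M ≠ ⊥ := by
    intro h
    refine hz01 (hρ (LinearMap.ext fun v => ?_))
    have h1 := hsub v
    rw [h, Submodule.mem_bot, sub_eq_zero] at h1
    rw [map_one, Module.End.one_apply, h1]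
    exact hfixe z0 hz0D v
  have hMfix : ∀ w ∈ M, avg ρ D w = 0 := fun w hw => LinearMap.mem_ker.1 hw
  have hMle : Module.finrank ℂ M ≤ n := (Submodule.finrank_le M).trans (by simp)
  -- `z0` is a scalar on `M`
  haveI : Nontrivial M := Submodule.nontrivial_iff_ne_bot.2 hM0
  let f : Module.End ℂ M := (ρ z0).restrict (fun v hv => hMinv z0 (hDle hz0D) v hv)
  obtain ⟨l, hl⟩ := Module.End.exists_eigenvalue f
  have hscal : ∀ v ∈ M, ρ z0 v = l • v := by
    have hcomm : ∀ x ∈ P, ∀ v : Fin n → ℂ, ρ x (ρ z0 v) = ρ z0 (ρ x v) := fun x hx v => by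
      rw [← Module.End.mul_apply, ← map_mul, hz0c x hx, map_mul, Module.End.mul_apply]
    let E : Submodule ℂ (Fin n → ℂ) := (f.eigenspace l).map M.subtype
    let R : Submodule ℂ (Fin n → ℂ) := M.map (ρ z0 - l • (1 : Module.End ℂ (Fin n → ℂ)))
    have hEp : p ≤ Module.finrank ℂ E := by
      refine le_finrank ρ hP hD E ?_ ?_ ?_
      · rintro x hx _ ⟨v, hv, rfl⟩
        refine ⟨⟨ρ x v, hMinv x hx v v.2⟩, ?_, rfl⟩
        rw [SetLike.mem_coe, Module.End.mem_eigenspace_iff] at hv ⊢
        refine Subtype.ext ?_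
        show ρ z0 (ρ x v) = l • ρ x v
        rw [← hcomm x hx, show ρ z0 (v : Fin n → ℂ) = l • v from congrArg Subtype.val hv, map_smul]
      · rintro _ ⟨v, -, rfl⟩; exact hMfix _ v.2
      · exact fun h => hl (Submodule.map_injective_of_injective M.injective_subtype (h.trans (Submodule.map_bot _).symm))
    intro v hv
    by_contra hne
    have hRp : p ≤ Module.finrank ℂ R := by
      refine le_finrank ρ hP hD R ?_ ?_ ?_
      · rintro x hx _ ⟨w, hw, rfl⟩
        refine ⟨ρ x w, hMinv x hx w hw, ?_⟩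
        simp [hcomm x hx]
      · rintro _ ⟨w, hw, rfl⟩
        refine hMfix _ ?_
        simp only [LinearMap.sub_apply, LinearMap.smul_apply, Module.End.one_apply]
        exact M.sub_mem (hMinv z0 (hDle hz0D) w hw) (M.smul_mem l hw)
      · intro h
        refine hne (sub_eq_zero.1 ?_)
        have : (ρ z0 - l • (1 : Module.End ℂ (Fin n → ℂ))) v ∈ R := ⟨v, hv, rfl⟩
        rw [h, Submodule.mem_bot] at this
        simpa using this
    let g : M →ₗ[ℂ] (Fin n → ℂ) := (ρ z0 - l • (1 : Module.End ℂ (Fin n → ℂ))).comp M.subtype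
    have h1 := g.finrank_range_add_finrank_ker
    have h2 : LinearMap.range g = R := by rw [LinearMap.range_comp, Submodule.range_subtype]
    have h3 : f.eigenspace l ≤ LinearMap.ker g := fun w hw => by
      rw [LinearMap.mem_ker]
      have := congrArg Subtype.val (Module.End.mem_eigenspace_iff.1 hw)
      simp only [g, LinearMap.comp_apply, Submodule.coe_subtype, LinearMap.sub_apply, LinearMap.smul_apply,
        Module.End.one_apply]
      exact sub_eq_zero.2 this
    have h4 := Submodule.finrank_mono h3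
    have h5 : Module.finrank ℂ E = Module.finrank ℂ (f.eigenspace l) :=
      (Submodule.equivMapOfInjective M.subtype M.injective_subtype _).finrank_eq.symm
    rw [h2] at h1
    omega
  obtain ⟨v0, hv0, hv00⟩ := Submodule.exists_mem_ne_zero_of_ne_bot hM0
  have hl1 : l ≠ 1 := by
    intro h
    refine hz01 (hρ (LinearMap.ext fun v => ?_))
    rw [map_one, Module.End.one_apply]
    have h1 := hscal _ (hsub v)
    rw [h, one_smul, map_sub, hfixe z0 hz0D] at h1
    exact sub_left_injective h1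
  have hlpow : l ^ p = 1 := by
    have h1 : ∀ i : ℕ, ρ (z0 ^ i) v0 = l ^ i • v0 := by
      intro i
      induction i with
      | zero => simp
      | succ i ih =>
        rw [pow_succ', map_mul, Module.End.mul_apply, ih, map_smul, hscal v0 hv0, smul_smul, pow_succ]
    have h2 := h1 p
    rw [← hz0p, pow_orderOf_eq_one, map_one, Module.End.one_apply, hz0p] at h2
    exact smul_left_injective ℂ hv00 (h2.symm.trans (one_smul ℂ v0).symm)
  -- the fixed part is nonzero
  obtain ⟨u0, hu00, hu0⟩ : ∃ u, u ≠ 0 ∧ e u = u := by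
    by_contra h
    push Not at h
    have hall : ∀ v, v ∈ M := fun v => LinearMap.mem_ker.2 (by
      by_contra h0
      exact h (e v) h0 (hee v))
    have hz : ρ z0 = l • (1 : Module.End ℂ (Fin n → ℂ)) := LinearMap.ext fun v => by simp [hscal v (hall v)]
    let φ : G →* ℂˣ := MonoidHom.toHomUnits ((LinearMap.det : Module.End ℂ (Fin n → ℂ) →* ℂ).comp ρ)
    have hker : D ≤ φ.ker := by
      rw [hD, Subgroup.commutator_le]
      intro x _ y _
      rw [MonoidHom.mem_ker, map_commutatorElement, commutatorElement_eq_one_iff_mul_comm.2 (mul_comm _ _)]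
    have h1 : LinearMap.det (ρ z0) = 1 := congrArg Units.val (MonoidHom.mem_ker.1 (hker hz0D))
    rw [hz, LinearMap.det_smul, show LinearMap.det (1 : Module.End ℂ (Fin n → ℂ)) = 1 from map_one _, mul_one,
      Module.finrank_fintype_fun_eq_card, Fintype.card_fin] at h1
    have hdn : p ∣ n := by
      by_contra hd
      have := pow_gcd_eq_one.2 ⟨hlpow, h1⟩
      rw [(hp.coprime_iff_not_dvd.2 hd).gcd_eq_one, pow_one] at this
      exact hl1 this
    obtain ⟨k, rfl⟩ := hdn
    rcases k with _ | _ | k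
    · exact hv00 (funext fun i => absurd (lt_of_lt_of_eq i.2 (mul_zero p)) (Nat.not_lt_zero _))
    · exact hnp (by ring)
    · rw [mul_comm 2 p] at hn
      have := Nat.lt_of_mul_lt_mul_left hn
      omega
  -- normalise the eigenvalue
  have hlprim : IsPrimitiveRoot l p := by
    refine IsPrimitiveRoot.iff_orderOf.2 (orderOf_eq_prime hlpow hl1)
  haveI : NeZero p := ⟨hp.ne_zero⟩
  set ω := Complex.exp (2 * Real.pi * Complex.I / p) with hω
  obtain ⟨i, -, hi⟩ := hlprim.eq_pow_of_pow_eq_one (ξ := ω) (Complex.isPrimitiveRoot_exp p hp.ne_zero).pow_eq_one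
  have hfixz : ∀ v, ρ (z0 ^ i) (e v) = e v := fun v => hfixe _ (pow_mem hz0D i) v
  have hscalz : ∀ v ∈ M, ρ (z0 ^ i) v = ω • v := by
    intro v hv
    rw [← hi]
    clear hi hfixz
    induction i with
    | zero => simp
    | succ i ih =>
      rw [pow_succ', map_mul, Module.End.mul_apply, ih, map_smul, hscal v hv, smul_smul, pow_succ]
  refine ⟨z0 ^ i, ω, rfl, fun v => ?_, ⟨u0, hu00, by rw [← hu0]; exact hfixz u0⟩, ⟨v0, hv00, hscalz v0 hv0⟩,
    fun W hW hlt w hw c hc => ?_⟩
  · have hv : ρ (z0 ^ i) v = e v + ω • (v - e v) := by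
      conv_lhs => rw [show v = e v + (v - e v) by abel, map_add, hfixz, hscalz _ (hsub v)]
    have hv2 : ρ (z0 ^ i) (ρ (z0 ^ i) v) = e v + (ω * ω) • (v - e v) := by
      rw [hv, map_add, map_smul, hfixz, hscalz _ (hsub v), smul_smul]
    rw [hv2, hv]
    module
  · -- small invariant subspaces are fixed
    have hWe : ∀ u ∈ W, e u ∈ W := fun u hu => by
      rw [he, avg, LinearMap.smul_apply, LinearMap.sum_apply]
      exact W.smul_mem _ (W.sum_mem fun d _ => hW d (hDle d.2) u hu)
    have h1 : W ⊓ M = ⊥ := by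
      by_contra h
      have := le_finrank ρ hP hD (W ⊓ M) (fun x hx v hv => ⟨hW x hx v hv.1, hMinv x hx v hv.2⟩)
        (fun v hv => hMfix v hv.2) h
      have := Submodule.finrank_mono (inf_le_left : W ⊓ M ≤ W)
      omega
    have h2 : w - e w ∈ W ⊓ M := ⟨W.sub_mem hw (hWe w hw), hsub w⟩
    rw [h1, Submodule.mem_bot, sub_eq_zero] at h2
    rw [h2]
    exact hfixe c hc w

end CfsgLib.SmallPSylow
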