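import Cfsg.Agent.Lib.SmallPSylow.Commute
import Cfsg.Agent.Lib.SmallPSylow.Fixed
import Cfsg.Agent.Lib.SolvClass.Decomp
import Cfsg.Prelude.Def_Solvable

/-!
A faithful irreducible group of degree `n < 2 p`, `n ≠ p`, `p ≥ 7` with a nonabelian `p`-subgroup is monomial
modulo blocks, and its Sylow `p`-subgroup modulo `O_p` has order at most `p`.
-/

set_option autoImplicit false
set_option linter.style.haveILetI false

namespace CfsgLib.SmallPSylow

open Cfsg CfsgLib.SolvClass CfsgLib.LinearGroups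
open scoped ComplexConjugate commutatorElement

universe u

theorem not_sq_dvd_factorial {p k : ℕ} (hp : p.Prime) (hk : k < 2 * p) : ¬ p ^ 2 ∣ k.factorial := by
  haveI := Fact.mk hp
  intro h
  have h1 := (padicValNat_dvd_iff_le (Nat.factorial_ne_zero k)).1 h
  rcases Nat.lt_or_ge k p with hlt | hge
  · have : ¬ p ∣ k.factorial := fun hd => absurd (hp.dvd_factorial.1 hd) (by omega)
    rw [padicValNat.eq_zero_of_not_dvd this] at h1
    omega
  · obtain ⟨r, rfl⟩ : ∃ r, k = p + r := ⟨k - p, by omega⟩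
    have h2 := padicValNat_factorial_mul_add (p := p) 1 (show r < p by omega)
    have h3 := padicValNat_factorial_mul (p := p) 1
    rw [mul_one] at h2 h3
    rw [Nat.factorial_one] at h3
    rw [padicValNat.eq_zero_of_not_dvd hp.not_dvd_one] at h3
    rw [h2, h3] at h1
    omega

/-- The angle condition. -/
theorem mu_lt_cos {p : ℕ} (h7 : 7 ≤ p) : mu < Real.cos (Real.pi / p) := by
  have hp : (7 : ℝ) ≤ p := by exact_mod_cast h7
  calc mu = Real.cos (Real.pi / 6) := by rw [Real.cos_pi_div_six]; rfl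
    _ < _ := by
      refine Real.cos_lt_cos_of_nonneg_of_le_pi (by positivity) (by linarith [Real.pi_pos]) ?_
      exact div_lt_div_of_pos_left Real.pi_pos (by norm_num) (by linarith)

variable {G : Type u} [Group G] [Finite G]

/-- `p ^ 2` does not divide the index of `O_p`. -/
theorem not_sq_dvd_index {n : ℕ} (ρ : Representation ℂ G (Fin n → ℂ)) [ρ.IsIrreducible]
    (hρ : Function.Injective ρ) {p : ℕ} [Fact p.Prime] (h7 : 7 ≤ p) (hn : n < 2 * p) (hnp : n ≠ p)
    {P : Subgroup G} (hP : IsPGroup p P) (hna : ∃ x ∈ P, ∃ y ∈ P, x * y ≠ y * x) :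
    ¬ p ^ 2 ∣ (Cfsg.pCore p G).index := by
  classical
  have hp : p.Prime := Fact.out
  obtain ⟨z, ω, hω, hquad, ⟨v1, hv10, hv1⟩, ⟨v2, hv20, hv2⟩, hsmallW⟩ :=
    exists_two_eigen hρ hP hna hn hnp
  set σ := Complex.exp ((Real.pi / p : ℝ) * Complex.I) with hσ
  have hσn : ‖σ‖ = 1 := Complex.norm_exp_ofReal_mul_I _
  have hσc : σ * conj σ = 1 := by rw [Complex.mul_conj', hσn]; norm_num
  have hσω : σ * σ = ω := by
    rw [hσ, hω, ← Complex.exp_add]; congr 1; push_cast; ring
  have hcj : ∀ g h : G, g * z * g⁻¹ * (h * z * h⁻¹) = h * z * h⁻¹ * (g * z * g⁻¹) := by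
    haveI : NeZero (2 * p) := ⟨by omega⟩
    refine commute_conj ρ hρ z (2 * p) (conj σ) σ ?_ hσn ?_ fun v => ?_
    · rw [← map_pow, hσ, ← Complex.exp_nat_mul]
      rw [show ((2 * p : ℕ) : ℂ) * ((Real.pi / p : ℝ) * Complex.I) = 2 * Real.pi * Complex.I by
        have : (p : ℂ) ≠ 0 := Nat.cast_ne_zero.2 hp.ne_zero
        push_cast; field_simp]
      rw [Complex.exp_two_pi_mul_I, map_one]
    · rw [hσ, Complex.exp_ofReal_mul_I_re]; exact mu_lt_cos h7
    · have h := congrArg (fun x => (conj σ * conj σ) • x) (hquad v)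
      simp only [smul_zero] at h
      rw [← h, smul_add, smul_sub, smul_smul, smul_smul]
      congr 2
      · congr 1; rw [← hσω]; linear_combination (-(σ * conj σ)) * hσc
      · rw [← hσω]
        rw [show conj σ * conj σ * (σ * σ) = 1 by linear_combination (σ * conj σ + 1) * hσc, one_smul]
  set A := Subgroup.normalClosure ({z} : Set G)
  have hA : ∀ a ∈ A, ∀ b ∈ A, a * b = b * a := by
    have := Subgroup.isMulCommutative_closure (k := Group.conjugatesOfSet ({z} : Set G)) (by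
      intro x hx y hy
      obtain ⟨a, ha, hxa⟩ := Group.mem_conjugatesOfSet_iff.1 hx
      obtain ⟨b, hb, hyb⟩ := Group.mem_conjugatesOfSet_iff.1 hy
      rw [Set.mem_singleton_iff.1 ha] at hxa
      rw [Set.mem_singleton_iff.1 hb] at hyb
      obtain ⟨g, rfl⟩ := isConj_iff.1 hxa
      obtain ⟨h, rfl⟩ := isConj_iff.1 hyb
      exact hcj g h)
    intro a ha b hb
    exact congrArg Subtype.val (this.is_comm.comm ⟨a, ha⟩ ⟨b, hb⟩)
  let ρ' : G →* ((Fin n → ℂ) ≃ₗ[ℂ] (Fin n → ℂ)) :=
    { toFun := fun g => LinearEquiv.ofLinear (ρ g) (ρ g⁻¹)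
        (by rw [← Module.End.mul_eq_comp, ← map_mul, mul_inv_cancel, map_one]; rfl)
        (by rw [← Module.End.mul_eq_comp, ← map_mul, inv_mul_cancel, map_one]; rfl)
      map_one' := LinearEquiv.ext fun v => by simp
      map_mul' := fun a b => LinearEquiv.ext fun v => by simp [map_mul] }
  have hρ' : Function.Injective ρ' := fun a b h => hρ (LinearMap.ext fun v => DFunLike.congr_fun h v)
  have hco : (Nat.card A : ℂ) ≠ 0 := Nat.cast_ne_zero.2 Nat.card_pos.ne'
  haveI : A.Normal := Subgroup.normalClosure_normal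
  rcases exists_blocks ρ' hA hco with hfield | ⟨D, hD2, htrans⟩
  · exfalso
    have hzA : z ∈ A := Subgroup.subset_normalClosure rfl
    have hZ : (ρ z) ∈ alg ρ' A := mem_alg ρ' hzA
    have hx : ρ z - 1 ∈ alg ρ' A := sub_mem hZ (one_mem _)
    have hx0 : ρ z - 1 ≠ 0 := fun h => by
      have h1 := LinearMap.congr_fun h v2
      simp only [LinearMap.sub_apply, Module.End.one_apply, LinearMap.zero_apply, hv2, sub_eq_zero] at h1
      have hω1 : ω = 1 := smul_left_injective ℂ hv20 (h1.trans (one_smul ℂ v2).symm)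
      exact (Complex.isPrimitiveRoot_exp p hp.ne_zero).ne_one hp.one_lt (hω ▸ hω1)
    obtain ⟨y, hy, hxy⟩ := hfield _ hx hx0
    have hyx : y * (ρ z - 1) = 1 := by rw [alg_comm ρ' hA hy hx, hxy]
    have h2 : ρ z v1 - ω • v1 = 0 := by
      have h3 : (ρ z - 1) (ρ z v1 - ω • v1) = 0 := by
        simp [map_sub, hv1]
      have := congrArg y h3
      rwa [← Module.End.mul_apply, hyx, map_zero, Module.End.one_apply] at this
    rw [hv1, sub_eq_zero] at h2
    exact (Complex.isPrimitiveRoot_exp p hp.ne_zero).ne_one hp.one_lt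
      (hω ▸ (smul_left_injective ℂ hv10 ((one_smul ℂ v1).trans h2)).symm)
  have hirr : ∀ U : Submodule ℂ (Fin n → ℂ), (∀ g, ∀ x ∈ U, ρ' g x ∈ U) → U = ⊥ ∨ U = ⊤ := fun U hU => by
    rcases eq_bot_or_eq_top (⟨U, hU⟩ : Subrepresentation ρ) with h | h
    · exact Or.inl (congrArg Subrepresentation.toSubmodule h)
    · exact Or.inr (congrArg Subrepresentation.toSubmodule h)
  obtain ⟨e0, he0⟩ : D.E.Nonempty := Finset.card_pos.1 (by omega)
  set d := Module.finrank ℂ (LinearMap.range (e0 : Module.End ℂ (Fin n → ℂ))) with hd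
  have hde : ∀ e : D.E, Module.finrank ℂ (LinearMap.range (e : Module.End ℂ (Fin n → ℂ))) = d := fun e => by
    obtain ⟨g, hg⟩ := htrans hirr e0 he0 e e.2
    exact (D.finrank_eq_of_conj (e := ⟨e0, he0⟩) (f := e) hg).symm
  have hkd : D.E.card * d = n := by
    have h := D.sum_finrank
    rw [Finset.sum_congr rfl fun e _ => hde e, Finset.sum_const, Finset.card_univ, Fintype.card_coe,
      smul_eq_mul, Module.finrank_fintype_fun_eq_card, Fintype.card_fin] at h
    exact h
  have hd0 : 0 < d := Module.finrank_pos_iff_exists_ne_zero.2 (by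
    obtain ⟨v, hv⟩ : ∃ v, e0 v ≠ 0 := by
      by_contra h
      push Not at h
      exact D.ne_zero e0 he0 (LinearMap.ext h)
    exact ⟨⟨e0 v, v, rfl⟩, fun h => hv (congrArg Subtype.val h)⟩)
  set K := D.permHom.ker with hK
  have hKstab : ∀ g ∈ K, ∀ e : D.E, ∀ v, (e : Module.End ℂ (Fin n → ℂ)) (ρ g v) = ρ g ((e : Module.End ℂ (Fin n → ℂ)) v) :=
    fun g hg e v => Blocks.commute_of_stab (D.ker_le_stab e hg) v
  have hcardperm : Nat.card (Equiv.Perm D.E) = D.E.card.factorial := by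
    rw [Nat.card_eq_fintype_card, Fintype.card_perm, Fintype.card_coe]
  have hkp : p ≤ D.E.card := by
    by_contra hlt
    push Not at hlt
    have hPK : P ≤ K := by
      intro x hx
      obtain ⟨a, ha⟩ := hP ⟨x, hx⟩
      have h1 : x ^ p ^ a = 1 := congrArg Subtype.val ha
      have h2 : orderOf (D.permHom x) ∣ p ^ a := orderOf_dvd_of_pow_eq_one (by rw [← map_pow, h1, map_one])
      have h3 : orderOf (D.permHom x) ∣ D.E.card.factorial := hcardperm ▸ orderOf_dvd_natCard _
      have h4 : Nat.Coprime (p ^ a) D.E.card.factorial :=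
        (hp.coprime_iff_not_dvd.2 fun hd => absurd (hp.dvd_factorial.1 hd) (by omega)).pow_left a
      exact MonoidHom.mem_ker.2 (orderOf_eq_one_iff.1 (Nat.eq_one_of_dvd_coprimes h4 h2 h3))
    have hdp : d < p := by
      have h1 : 2 * d ≤ n := hkd ▸ Nat.mul_le_mul_right d hD2
      omega
    obtain ⟨x, hx, y, hy, hxy⟩ := hna
    have hc1 : ⁅x, y⁆ = 1 := hρ' (LinearEquiv.ext fun v => by
      show ρ ⁅x, y⁆ v = ρ' 1 v
      rw [map_one, LinearEquiv.coe_one, id_eq]
      conv_lhs => rw [← D.sum_apply v]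
      rw [map_sum]
      conv_rhs => rw [← D.sum_apply v]
      refine Finset.sum_congr rfl fun e _ => ?_
      refine hsmallW (LinearMap.range (e : Module.End ℂ (Fin n → ℂ))) ?_ ((hde e).symm ▸ hdp) _ ⟨v, rfl⟩ _
        (Subgroup.commutator_mem_commutator hx hy)
      rintro g hg _ ⟨w, rfl⟩
      exact ⟨ρ g w, hKstab g (hPK hg) e w⟩)
    exact hxy (commutatorElement_eq_one_iff_mul_comm.1 hc1)
  have hd1 : d = 1 := by
    by_contra h
    have : D.E.card * 2 ≤ D.E.card * d := Nat.mul_le_mul_left _ (by omega)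
    omega
  have hKab : ∀ g ∈ K, ∀ h ∈ K, g * h = h * g := by
    intro g hg h hh
    refine hρ (LinearMap.ext fun v => ?_)
    rw [← D.sum_apply v, map_sum, map_sum]
    refine Finset.sum_congr rfl fun e _ => ?_
    obtain ⟨w, hw0, hw⟩ := finrank_eq_one_iff'.1 ((hde e).trans hd1)
    obtain ⟨a, ha⟩ := hw ⟨ρ g w, by obtain ⟨u, hu⟩ := w.2; exact ⟨ρ g u, by rw [hKstab g hg, hu]⟩⟩
    obtain ⟨b, hb⟩ := hw ⟨ρ h w, by obtain ⟨u, hu⟩ := w.2; exact ⟨ρ h u, by rw [hKstab h hh, hu]⟩⟩
    obtain ⟨c, hc⟩ := hw ⟨(e : Module.End ℂ (Fin n → ℂ)) v, v, rfl⟩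
    have ha' : a • (w : Fin n → ℂ) = ρ g w := congrArg Subtype.val ha
    have hb' : b • (w : Fin n → ℂ) = ρ h w := congrArg Subtype.val hb
    have hc' : c • (w : Fin n → ℂ) = (e : Module.End ℂ (Fin n → ℂ)) v := congrArg Subtype.val hc
    rw [← hc', map_mul, map_mul, Module.End.mul_apply, Module.End.mul_apply]
    simp only [map_smul, ← ha', ← hb']
    rw [smul_comm b a]
  -- the Sylow part of the abelian kernel
  obtain ⟨Q⟩ := (inferInstance : Nonempty (Sylow p K))
  haveI hKcomm : IsMulCommutative K := ⟨⟨fun a b => Subtype.ext (hKab a a.2 b b.2)⟩⟩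
  haveI hQn : (Q : Subgroup K).Normal := Subgroup.normal_of_isMulCommutative _
  haveI : (Q : Subgroup K).Characteristic := Sylow.characteristic_of_normal Q hQn
  have hQle : (Q : Subgroup K).map K.subtype ≤ Cfsg.pCore p G :=
    le_sSup ⟨ConjAct.normal_of_characteristic_of_normal, Q.2.map _⟩
  intro hdvd
  have h1 : p ^ 2 ∣ (Q : Subgroup K).index * K.index := by
    rw [← Subgroup.index_map_subtype]
    exact hdvd.trans (Subgroup.index_dvd_of_le hQle)
  have h2 : p ^ 2 ∣ K.index :=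
    (Nat.Coprime.pow_left 2 (hp.coprime_iff_not_dvd.2 Q.not_dvd_index)).dvd_of_dvd_mul_left h1
  have h3 : K.index ∣ D.E.card.factorial := by
    rw [hK, Subgroup.index_ker, ← hcardperm]
    exact Subgroup.card_subgroup_dvd_card _
  refine not_sq_dvd_factorial hp ?_ (h2.trans h3)
  have : D.E.card ≤ n := (Nat.le_mul_of_pos_right _ hd0).trans hkd.le
  omega

end CfsgLib.SmallPSylow
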